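import Cfsg.Agent.BZ.L.Two.A

/-!
# BZ, classical groups, `l = 2` : functions on the cycles (helper31)

`Eq τ E s` : `s j = s (τ j) ^ E`.  `Eq.cst` (the `r`-part is constant on the cycles), `Eq.bad_r`, `Eq.bad_two`, `ind` (indicator functions).
-/

set_option autoImplicit false
set_option linter.unusedSectionVars false
set_option maxHeartbeats 400000

namespace Cfsg.Agent.BZ.Two

open Subgroup

variable {A : Type} [CommGroup A] {J : Type} [Fintype J] [DecidableEq J] {τ b : Equiv.Perm J} {E : ℤ} {s : J → A}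

/-- the equation of the fixed points -/
def Fe (τ : Equiv.Perm J) (E : ℤ) (s : J → A) : Prop := ∀ j, s j = s (τ j) ^ E

theorem eq_one_of_cop {x : A} {a c : ℤ} (h : IsCoprime a c) (h1 : x ^ a = 1) (h2 : x ^ c = 1) : x = 1 := by
  obtain ⟨u, v, e⟩ := h
  rw [← zpow_one x, ← e, zpow_add, mul_comm u, mul_comm v, zpow_mul, zpow_mul, h1, h2, one_zpow, one_zpow, mul_one]

theorem geo_mod {r : ℤ} (h : r ∣ E - 1) (n : ℕ) : r ∣ (∑ i ∈ Finset.range n, E ^ i) - n := by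
  induction n with
  | zero => simp
  | succ n ih =>
    rw [Finset.sum_range_succ, Nat.cast_succ, show ∑ i ∈ Finset.range n, E ^ i + E ^ n - (n + 1) =
      (∑ i ∈ Finset.range n, E ^ i - n) + (E ^ n - 1 ^ n) by ring]
    exact dvd_add ih (h.trans (sub_dvd_pow_sub_pow E 1 n))

/-- lifting the exponent -/
theorem lte {x : A} {r a n : ℕ} (hx : x ^ r ^ a = 1) (h : (r : ℤ) ∣ E - 1) (hn : r.Coprime n) (e : x ^ E ^ n = x) : x ^ E = x := by
  have h1 : (x ^ (E - 1)) ^ (∑ i ∈ Finset.range n, E ^ i) = 1 := by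
    rw [← zpow_mul, mul_geom_sum, zpow_sub, e, zpow_one, mul_inv_cancel]
  have h2 : (x ^ (E - 1)) ^ ((r : ℤ) ^ a) = 1 := by
    rw [← zpow_mul, mul_comm, zpow_mul, ← Nat.cast_pow, zpow_natCast, hx, one_zpow]
  have h3 : IsCoprime (∑ i ∈ Finset.range n, E ^ i) ((r : ℤ) ^ a) := by
    obtain ⟨u, hu⟩ := geo_mod h n
    rw [sub_eq_iff_eq_add'.1 hu]
    exact ((Nat.isCoprime_iff_coprime.2 hn.symm).add_mul_left_left u).pow_right
  have h4 := eq_one_of_cop h3 h1 h2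
  rwa [zpow_sub, zpow_one, mul_inv_eq_one] at h4

namespace Fe

theorem mul {s' : J → A} (h : Fe τ E s) (h' : Fe τ E s') : Fe τ E (s * s') := fun j => by
  rw [Pi.mul_apply, Pi.mul_apply, mul_zpow, ← h, ← h']

theorem iter (h : Fe τ E s) (n : ℕ) (j : J) : s j = s ((τ ^ n) j) ^ E ^ n := by
  induction n with
  | zero => simp
  | succ n ih => rw [pow_succ', Equiv.Perm.mul_apply, pow_succ', zpow_mul, ← h, ← ih]

theorem same (h : Fe τ E s) {i j : J} (e : τ.SameCycle i j) : ∃ n : ℕ, s i = s j ^ E ^ n := by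
  obtain ⟨n, -, rfl⟩ := e.exists_pow_eq'
  exact ⟨n, h.iter n i⟩

/-- the elements of order prime to the lengths of the cycles -/
theorem fix (h : Fe τ E s) {r a : ℕ} (hr : r.Prime) (hJ : Fintype.card J < r) (hE : (r : ℤ) ∣ E - 1) (hs : ∀ j, s j ^ r ^ a = 1) (j : J) :
    s j ^ E = s j := by
  have h1 := Function.minimalPeriod_pos_of_mem_periodicPts (τ.injective.mem_periodicPts j)
  refine lte (hs j) hE ((Nat.Prime.coprime_iff_not_dvd hr).2 (Nat.not_dvd_of_pos_of_lt h1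
    ((Function.minimalPeriod_le_card (f := τ) (x := j)).trans_lt hJ))) ?_
  have h2 := h.iter (Function.minimalPeriod τ j) j
  rw [Equiv.Perm.coe_pow, Function.iterate_minimalPeriod] at h2
  exact h2.symm

theorem cst (h : Fe τ E s) (h1 : ∀ j, s j ^ E = s j) {i j : J} (e : τ.SameCycle i j) : s i = s j := by
  obtain ⟨n, -, rfl⟩ := e.exists_pow_eq'
  induction n with
  | zero => rfl
  | succ n ih => rw [ih ⟨n, by rw [zpow_natCast]⟩, pow_succ', Equiv.Perm.mul_apply, h ((τ ^ n) i), h1]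

theorem bad (h : Fe τ E s) {i j : J} (e : τ.SameCycle i j) (h1 : s j = (s i)⁻¹) : ∃ n : ℕ, s i ^ (E ^ n + 1) = 1 := by
  obtain ⟨n, hn⟩ := h.same e
  refine ⟨n, ?_⟩
  rw [h1, inv_zpow, eq_inv_iff_mul_eq_one] at hn
  rw [zpow_add, zpow_one, mul_comm, hn]

theorem bad_two (h : Fe τ E s) (hE : (4 : ℤ) ∣ E - 1) {a : ℕ} {i j : J} (hs : s i ^ 2 ^ a = 1) (e : τ.SameCycle i j)
    (h1 : s j = (s i)⁻¹) : s i ^ 2 = 1 := by
  obtain ⟨n, hn⟩ := h.bad e h1
  obtain ⟨u, hu⟩ := hE.trans (sub_dvd_pow_sub_pow E 1 n)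
  rw [one_pow, sub_eq_iff_eq_add] at hu
  refine eq_one_of_cop (a := 2 * u + 1) (c := 2 ^ a) (IsCoprime.pow_right ⟨1, -u, by ring⟩) ?_ ?_
  · rw [← zpow_natCast, ← zpow_mul, ← hn, hu]
    congr 1
    push_cast
    ring
  · rw [show (2 : ℤ) ^ a = (2 ^ a : ℕ) by simp, zpow_natCast, ← pow_mul, mul_comm, pow_mul, hs, one_pow]

end Fe

/-- `ζ` on the cycle of `x`, `ζ⁻¹` on the cycle of `b x` -/
def ind (τ b : Equiv.Perm J) (x : J) (ζ : A) (j : J) : A :=
  if τ.SameCycle x j then ζ else if τ.SameCycle (b x) j then ζ⁻¹ else 1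

theorem same_bar (hb : ∀ j, b (τ j) = τ (b j)) {i j : J} : τ.SameCycle (b i) (b j) ↔ τ.SameCycle i j := by
  have h1 : b * τ * b⁻¹ = τ := by
    rw [mul_inv_eq_iff_eq_mul]
    exact Equiv.ext hb
  conv_lhs => rw [← h1, Equiv.Perm.sameCycle_conj]
  simp

section ind

variable (hb : ∀ j, b (τ j) = τ (b j)) (bb : ∀ j, b (b j) = j) {x : J} {ζ : A}

theorem ind_same {i j : J} (e : τ.SameCycle i j) : ind τ b x ζ i = ind τ b x ζ j := by
  unfold ind
  simp only [show τ.SameCycle x i ↔ τ.SameCycle x j from ⟨fun h => h.trans e, fun h => h.trans e.symm⟩,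
    show τ.SameCycle (b x) i ↔ τ.SameCycle (b x) j from ⟨fun h => h.trans e, fun h => h.trans e.symm⟩]

theorem ind_of {j : J} (e : τ.SameCycle x j) : ind τ b x ζ j = ζ := if_pos e

theorem ind_one {j : J} (e : ¬ τ.SameCycle x j) (e' : ¬ τ.SameCycle (b x) j) : ind τ b x ζ j = 1 := (if_neg e).trans (if_neg e')

theorem ind_pow {n : ℤ} (h : ζ ^ n = 1) (j : J) : ind τ b x ζ j ^ n = 1 := by
  unfold ind
  split_ifs
  · exact h
  · rw [inv_zpow, h, inv_one]
  · exact one_zpow _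

theorem ind_fe (h : ζ ^ (E - 1) = 1) : Fe τ E (ind τ b x ζ) := fun j => by
  have := ind_pow (τ := τ) (b := b) (x := x) h (τ j)
  rw [zpow_sub, zpow_one, mul_inv_eq_one] at this
  rw [this]
  exact ind_same ⟨1, by simp⟩

include hb bb in
theorem ind_bar (h : τ.SameCycle x (b x) → ζ⁻¹ = ζ) (j : J) : ind τ b x ζ (b j) = (ind τ b x ζ j)⁻¹ := by
  have h1 : τ.SameCycle x (b j) ↔ τ.SameCycle (b x) j := by rw [← same_bar hb, bb]
  have h2 : τ.SameCycle (b x) (b j) ↔ τ.SameCycle x j := same_bar hb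
  unfold ind
  simp only [h1, h2]
  split_ifs with e1 e2 e2
  · exact (h (e2.trans e1.symm)).symm
  · rw [inv_inv]
  · rfl
  · rw [inv_one]

end ind

end Cfsg.Agent.BZ.Two
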